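import Cfsg.Agent.Involutions.BaerSuzuki

/-!
# Components of transvections over `GF(2)` (abstract part of helper144 #18799 (7))

`H` acts faithfully on the elementary abelian `2`-group `M`.

* `Tv t c` : `t ≠ 1`, `c ≠ 0`, `t m ∈ {m, m + c}` for all `m` (transvection with centre `c`);
* `Tv.comm_iff` : `Tv s c`, `Tv t d`: `s t = t s` iff `s d = d` and `t c = c`;
* `Nb M s t` : two transvections with `|s t| = 3`; `nb_iff` : iff `s d ≠ d`, `t c ≠ c`;
* `exists_nb` : if `O₂(H) = 1`, each transvection has a neighbour (Baer - Suzuki);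
* `Cmp M s t` : same component; `comm_of_not_cmp` : transvections of different components commute.
-/

set_option autoImplicit false

namespace Cfsg.Agent.Omega.NO3S.TwoMid.TwoBlk

universe u v

variable {H : Type u} [Group H] {M : Type v} [AddCommGroup M] [DistribMulAction H M]

/-- `t` is a transvection with centre `c` -/
structure Tv (t : H) (c : M) : Prop where
  ne : t ≠ 1
  c_ne : c ≠ 0
  or : ∀ m : M, t • m = m ∨ t • m = m + c

theorem add_cancel2 (hM : ∀ m : M, m + m = 0) (a b : M) : a + b + b = a := by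
  rw [add_assoc, hM, add_zero]

theorem smul_inv_eq {s : H} {m : M} (h : s • m = m) : s⁻¹ • m = m := by
  conv_lhs => rw [← h]
  rw [inv_smul_smul]

namespace Tv

variable {s t : H} {c d e : M}

theorem smul_c (hM : ∀ m : M, m + m = 0) (h : Tv t c) : t • c = c := by
  rcases h.or c with e | e
  · exact e
  · rw [hM, smul_eq_zero_iff_eq] at e
    exact absurd e h.c_ne

theorem mul_self [FaithfulSMul H M] (hM : ∀ m : M, m + m = 0) (h : Tv t c) : t * t = 1 := by
  refine eq_of_smul_eq_smul (α := M) fun m => ?_
  rw [mul_smul, one_smul]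
  rcases h.or m with e | e
  · rw [e, e]
  · rw [e, smul_add, e, h.smul_c hM, add_cancel2 hM]

theorem inv_eq [FaithfulSMul H M] (hM : ∀ m : M, m + m = 0) (h : Tv t c) : t⁻¹ = t :=
  inv_eq_of_mul_eq_one_left (h.mul_self hM)

theorem exists_moved [FaithfulSMul H M] (h : Tv t c) : ∃ m : M, t • m = m + c := by
  by_contra hn
  push Not at hn
  refine h.ne (eq_of_smul_eq_smul (α := M) fun m => ?_)
  rw [one_smul]
  exact (h.or m).resolve_right (hn m)

theorem conj (h : Tv t c) (g : H) : Tv (g * t * g⁻¹) (g • c) where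
  ne := by
    intro e
    refine h.ne ?_
    have : t = g⁻¹ * (g * t * g⁻¹) * g := by group
    rw [this, e]
    group
  c_ne := by
    rw [Ne, smul_eq_zero_iff_eq]
    exact h.c_ne
  or := by
    intro m
    rw [mul_smul, mul_smul]
    rcases h.or (g⁻¹ • m) with e | e
    · left
      rw [e, smul_inv_smul]
    · right
      rw [e, smul_add, smul_inv_smul]

theorem unique [FaithfulSMul H M] (h : Tv t c) (h' : Tv t d) : c = d := by
  obtain ⟨m, hm⟩ := h.exists_moved
  rcases h'.or m with e | e
  · rw [hm] at e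
    exact absurd (add_eq_left.mp e) h.c_ne
  · rw [hm] at e
    exact add_left_cancel e

theorem comm_iff [FaithfulSMul H M] (hs : Tv s c) (ht : Tv t d) :
    s * t = t * s ↔ s • d = d ∧ t • c = c := by
  constructor
  · intro h
    constructor
    · have h1 := ht.conj s
      rw [h, mul_assoc, mul_inv_cancel, mul_one] at h1
      exact h1.unique ht
    · have h1 := hs.conj t
      rw [← h, mul_assoc, mul_inv_cancel, mul_one] at h1
      exact h1.unique hs
  · rintro ⟨h1, h2⟩
    refine eq_of_smul_eq_smul (α := M) fun m => ?_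
    rw [mul_smul, mul_smul]
    rcases hs.or m with e1 | e1 <;> rcases ht.or m with e2 | e2
    · rw [e1, e2, e1]
    · rw [e1, e2, smul_add, e1, h1]
    · rw [e1, e2, smul_add, e2, h2, e1]
    · rw [e1, e2, smul_add, smul_add, e1, e2, h1, h2, add_right_comm]

/-- `s = (c, f₁)`, `t = (d, f₂)`, `f₁(d) = 1`, `f₂(c) = 0`: `[s, t] = (c, f₂)` -/
theorem comm_tv [FaithfulSMul H M] (hM : ∀ m : M, m + m = 0) (hs : Tv s c) (ht : Tv t d) (h1 : s • d = d + c)
    (h2 : t • c = c) : ∀ m : M, (t • m = m → (s * t * s * t) • m = m) ∧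
      (t • m = m + d → (s * t * s * t) • m = m + c) := by
  have hd := ht.smul_c hM
  have hc := hs.smul_c hM
  intro m
  constructor
  · intro e2
    rw [mul_smul, mul_smul, mul_smul, e2]
    rcases hs.or m with e1 | e1
    · rw [e1, e2, e1]
    · rw [e1, smul_add, e2, h2, smul_add, e1, hc, add_cancel2 hM]
  · intro e2
    rw [mul_smul, mul_smul, mul_smul, e2, smul_add, h1]
    rcases hs.or m with e1 | e1
    · rw [e1, smul_add t, smul_add t, e2, h2, hd, ← add_assoc, add_cancel2 hM, smul_add, e1, hc]
    · rw [e1]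
      have e3 : m + c + (d + c) = m + d := by
        rw [add_comm d c, ← add_assoc, add_cancel2 hM]
      rw [e3, smul_add, e2, hd, add_cancel2 hM, e1]

end Tv

/-- being a transvection -/
def IsTv (M : Type v) [AddCommGroup M] [DistribMulAction H M] (t : H) : Prop := ∃ c : M, Tv t c

/-- two transvections with product of order `3` -/
def Nb (M : Type v) [AddCommGroup M] [DistribMulAction H M] (s t : H) : Prop :=
  IsTv M s ∧ IsTv M t ∧ s ≠ t ∧ s * t * s = t * s * t

variable {s t x y : H} {c d : M}

theorem Nb.symm (h : Nb M s t) : Nb M t s := ⟨h.2.1, h.1, h.2.2.1.symm, h.2.2.2.symm⟩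

theorem Nb.conj (h : Nb M s t) (g : H) : Nb M (g * s * g⁻¹) (g * t * g⁻¹) := by
  obtain ⟨⟨c, hc⟩, ⟨d, hd⟩, h1, h2⟩ := h
  refine ⟨⟨_, hc.conj g⟩, ⟨_, hd.conj g⟩, fun e => h1 ?_, ?_⟩
  · exact mul_left_cancel (mul_right_cancel e)
  · have e1 : ∀ x y : H, g * x * g⁻¹ * (g * y * g⁻¹) * (g * x * g⁻¹) = g * (x * y * x) * g⁻¹ := fun x y => by group
    rw [e1, e1, h2]

theorem not_comm_of_nb (h : Nb M s t) : s * t ≠ t * s := by
  intro e
  refine h.2.2.1 ?_
  have h1 := h.2.2.2
  rw [e] at h1
  exact (mul_left_cancel h1)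

theorem nb_iff [FaithfulSMul H M] (hM : ∀ m : M, m + m = 0) (hs : Tv s c) (ht : Tv t d) :
    Nb M s t ↔ s • d ≠ d ∧ t • c ≠ c := by
  have key : ∀ {s t : H} {c d : M}, Tv s c → Tv t d → Nb M s t → s • d ≠ d := by
    intro s t c d hs ht h h1
    have h2 := h.2.2.2
    have e1 : Tv (s * t * s) (s • d) := by
      have := ht.conj s
      rwa [hs.inv_eq hM] at this
    have e2 : Tv (t * s * t) (t • c) := by
      have := hs.conj t
      rwa [ht.inv_eq hM] at this
    rw [h2, h1] at e1
    have e3 := e1.unique e2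
    have h3 : t • c = c := by
      rcases hs.or d with _ | _
      · rcases ht.or c with e | e
        · exact e
        · rw [e] at e3
          exact absurd (right_eq_add.mp e3) hs.c_ne
      · rcases ht.or c with e | e
        · exact e
        · rw [e] at e3
          exact absurd (right_eq_add.mp e3) hs.c_ne
    exact not_comm_of_nb h ((hs.comm_iff ht).mpr ⟨h1, h3⟩)
  constructor
  · intro h
    exact ⟨key hs ht h, key ht hs h.symm⟩
  · rintro ⟨h1, h2⟩
    have h3 := (hs.or d).resolve_left h1
    have h4 := (ht.or c).resolve_left h2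
    have hc := hs.smul_c hM
    have hd := ht.smul_c hM
    refine ⟨⟨c, hs⟩, ⟨d, ht⟩, ?_, ?_⟩
    · rintro rfl
      have := hs.unique ht
      subst this
      exact h1 hc
    · refine eq_of_smul_eq_smul (α := M) fun m => ?_
      rw [mul_smul, mul_smul, mul_smul, mul_smul]
      rcases hs.or m with e1 | e1 <;> rcases ht.or m with e2 | e2
      · rw [e1, e2, e1, e2]
      · rw [e1, e2, smul_add, e1, h3, smul_add, smul_add, e2, hd, h4]
        have : m + d + (d + (c + d)) = m + (d + c) + (d + d) := by abel
        rw [this, hM, add_zero]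
      · rw [e1, e2, smul_add, e2, h4, e1, smul_add, smul_add, e1, hc, h3, smul_add, e2, h4]
        have : m + c + (c + (d + c)) = m + (c + d) + (c + c) := by abel
        rw [this, hM, add_zero]
      · rw [e1, e2, smul_add t, smul_add s m d, e2, e1, h3, h4]
        have f1 : m + d + (c + d) = m + c := by
          have : m + d + (c + d) = m + c + (d + d) := by abel
          rw [this, hM, add_zero]
        have f2 : m + c + (d + c) = m + d := by
          have : m + c + (d + c) = m + d + (c + c) := by abel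
          rw [this, hM, add_zero]
        rw [f1, f2, smul_add, smul_add, e1, e2, hc, hd, add_cancel2 hM, add_cancel2 hM]

/-- two involutions `t`, `s` with `(t s)⁴ = 1` generate a `2`-group -/
theorem isPGroup_pair (ht : t * t = 1) (hs : s * s = 1) (h4 : (t * s) ^ 4 = 1) :
    IsPGroup 2 (Subgroup.closure {t, s} : Subgroup H) := by
  have hti : t⁻¹ = t := inv_eq_of_mul_eq_one_left ht
  have hsi : s⁻¹ = s := inv_eq_of_mul_eq_one_left hs
  have hz : ∀ g : H, ∀ n : ℕ, g ^ 2 ^ n = 1 → IsPGroup 2 (Subgroup.zpowers g) := by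
    rintro g n hg ⟨x, hx⟩
    obtain ⟨k, rfl⟩ := Subgroup.mem_zpowers_iff.1 hx
    refine ⟨n, Subtype.ext ?_⟩
    rw [Subgroup.coe_pow, Subgroup.coe_one]
    simp only
    rw [← zpow_natCast, ← zpow_mul, mul_comm, zpow_mul, zpow_natCast, hg, one_zpow]
  have h1 : IsPGroup 2 (Subgroup.zpowers t) := hz t 1 (by rw [pow_one, pow_two, ht])
  have h2 : IsPGroup 2 (Subgroup.zpowers (t * s)) := hz (t * s) 2 (by norm_num; exact h4)
  have hinv : t * (t * s) * t⁻¹ = (t * s)⁻¹ := by
    rw [hti, mul_inv_rev, hti, hsi, ← mul_assoc, ht, one_mul]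
  have h3 : IsPGroup 2 (Subgroup.zpowers t ⊔ Subgroup.zpowers (t * s) : Subgroup H) := by
    refine IsPGroup.to_sup_of_normal_right' h1 h2 ?_
    rw [Subgroup.zpowers_le, Subgroup.mem_normalizer_iff]
    have key : ∀ x, x ∈ Subgroup.zpowers (t * s) → t * x * t⁻¹ ∈ Subgroup.zpowers (t * s) := by
      rintro x ⟨k, rfl⟩
      refine ⟨-k, ?_⟩
      have : t * (t * s) ^ k * t⁻¹ = (t * (t * s) * t⁻¹) ^ k := by
        rw [← MulAut.conj_apply, map_zpow, MulAut.conj_apply]
      simp only
      rw [this, hinv, inv_zpow, zpow_neg]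
    intro x
    refine ⟨key x, fun hx => ?_⟩
    have := key _ hx
    rwa [hti, show t * (t * x * t) * t = (t * t) * x * (t * t) by group, ht, one_mul, mul_one] at this
  refine h3.to_le ?_
  rw [Subgroup.closure_le]
  rintro w (rfl | rfl)
  · exact Subgroup.mem_sup_left (Subgroup.mem_zpowers w)
  · have h5 : t⁻¹ * (t * w) ∈ (Subgroup.zpowers t ⊔ Subgroup.zpowers (t * w) : Subgroup H) :=
      mul_mem (inv_mem (Subgroup.mem_sup_left (Subgroup.mem_zpowers t)))
        (Subgroup.mem_sup_right (Subgroup.mem_zpowers _))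
    rwa [inv_mul_cancel_left] at h5

/-- transvections which are not neighbours: `(t s)⁴ = 1` -/
theorem pow_four [FaithfulSMul H M] (hM : ∀ m : M, m + m = 0) (hs : Tv s c) (ht : Tv t d) (hn : ¬ Nb M s t) :
    (s * t) ^ 4 = 1 := by
  have hss := hs.mul_self hM
  have htt := ht.mul_self hM
  have hsi := hs.inv_eq hM
  have hti := ht.inv_eq hM
  have key : ∀ {s t : H} {c d : M}, Tv s c → Tv t d → s • d = d + c → t • c = c →
      (s * t * s * t) * (s * t * s * t) = 1 := by
    intro s t c d hs ht h1 h2
    refine eq_of_smul_eq_smul (α := M) fun m => ?_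
    have hk := hs.comm_tv hM ht h1 h2
    rw [mul_smul, one_smul]
    rcases ht.or m with e | e
    · rw [(hk m).1 e, (hk m).1 e]
    · rw [(hk m).2 e, smul_add, (hk m).2 e, (hk c).1 h2, add_cancel2 hM]
  rw [nb_iff hM hs ht] at hn
  push Not at hn
  by_cases h1 : s • d = d
  · rcases ht.or c with h2 | h2
    · have h3 := (hs.comm_iff ht).mpr ⟨h1, h2⟩
      have : (s * t) ^ 2 = 1 := by
        rw [pow_two]
        calc s * t * (s * t) = t * s * (s * t) := by rw [h3]
          _ = t * (s * s) * t := by group
          _ = 1 := by rw [hss, mul_one, htt]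
      rw [show 4 = 2 * 2 by norm_num, pow_mul, this, one_pow]
    · have h3 := key ht hs h2 h1
      have : (s * t) ^ 4 = s * (t * s * t * s * (t * s * t * s)) * s⁻¹ := by
        rw [hsi]
        have : s * (t * s * t * s * (t * s * t * s)) * s = (s * t) * (s * t) * (s * t) * (s * t) * (s * s) := by group
        rw [this, hss, mul_one]
        simp only [pow_succ, pow_zero, one_mul, mul_assoc]
      rw [this, h3, mul_one, mul_inv_cancel]
  · have h2 := (hs.or d).resolve_left h1
    have h3 := key hs ht h2 (hn h1)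
    rw [← h3]
    simp only [pow_succ, pow_zero, one_mul, mul_assoc]

theorem exists_nb [Finite H] [FaithfulSMul H M] (hM : ∀ m : M, m + m = 0) (hO : pCore 2 H = ⊥) (ht : Tv t c) :
    ∃ s, Nb M t s := by
  by_contra hn
  push Not at hn
  have h1 : t ∈ pCore 2 H := by
    refine Cfsg.Agent.Involutions.BaerSuzuki.mem_pCore_of_conj_pairs t fun g => ?_
    have hs := ht.conj g
    exact isPGroup_pair (ht.mul_self hM) (hs.mul_self hM) (pow_four hM ht hs (hn _))
  rw [hO, Subgroup.mem_bot] at h1
  exact ht.ne h1

/-- the same component -/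
def Cmp (M : Type v) [AddCommGroup M] [DistribMulAction H M] (s t : H) : Prop := Relation.ReflTransGen (Nb M) s t

theorem Cmp.symm (h : Cmp M s t) : Cmp M t s := by
  induction h with
  | refl => exact .refl
  | tail _ h ih => exact Relation.ReflTransGen.head h.symm ih

theorem Cmp.trans (h : Cmp M s t) (h' : Cmp M t x) : Cmp M s x := Relation.ReflTransGen.trans h h'

theorem Nb.cmp (h : Nb M s t) : Cmp M s t := Relation.ReflTransGen.single h

theorem Cmp.isTv (h : Cmp M s t) (hs : IsTv M s) : IsTv M t := by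
  induction h with
  | refl => exact hs
  | tail _ h _ => exact h.2.1

/-- **transvections of different components commute** (`O₂(H) = 1`) -/
theorem comm_of_not_cmp [Finite H] [FaithfulSMul H M] (hM : ∀ m : M, m + m = 0) (hO : pCore 2 H = ⊥)
    (hs : Tv s c) (ht : Tv t d) (hn : ¬ Cmp M s t) : s * t = t * s := by
  have key : ∀ {s t : H} {c d : M}, Tv s c → Tv t d → ¬ Cmp M s t → s • d ≠ d → False := by
    intro s t c d hs ht hn h1
    have h2 : t • c = c := by
      by_contra h2
      exact hn ((nb_iff hM hs ht).mpr ⟨h1, h2⟩).cmp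
    have h1' := (hs.or d).resolve_left h1
    -- `z = [s, t] = (c, f₂)`
    have hk := hs.comm_tv hM ht h1' h2
    have hz : Tv (s * t * s * t) c := by
      refine ⟨?_, hs.c_ne, fun m => ?_⟩
      · intro e
        obtain ⟨m, hm⟩ := ht.exists_moved
        have := (hk m).2 hm
        rw [e, one_smul] at this
        exact hs.c_ne (left_eq_add.mp this)
      · rcases ht.or m with e | e
        · exact .inl ((hk m).1 e)
        · exact .inr ((hk m).2 e)
    obtain ⟨w, hw⟩ := exists_nb hM hO hz
    obtain ⟨e, he⟩ := hw.2.1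
    obtain ⟨h3, h4⟩ := (nb_iff hM hz he).mp hw
    -- `f₂(e) = 1`
    have h5 : t • e = e + d := by
      rcases ht.or e with e1 | e1
      · exact absurd ((hk e).1 e1) h3
      · exact e1
    have hcc := hs.smul_c hM
    have hdd := ht.smul_c hM
    have h4' := (he.or c).resolve_left h4
    -- an element `w` with centre `e'`, `f₂(e') = 1`, `w` moves `c`, `f₁(e') = 1`
    obtain ⟨w1, e1, hw1, a1, a2, a3⟩ : ∃ (w1 : H) (e1 : M), Tv w1 e1 ∧ w1 • c ≠ c ∧ t • e1 = e1 + d ∧
        s • e1 ≠ e1 := by
      by_cases h6 : s • e = e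
      · -- replace `w` by `t w t`
        refine ⟨t * w * t⁻¹, t • e, he.conj t, ?_, ?_, ?_⟩
        · rw [mul_smul, mul_smul, smul_inv_eq h2]
          intro h7
          apply h4
          have h8 : t • (w • c) = t • c := h7.trans h2.symm
          exact smul_left_cancel t h8
        · rw [h5, smul_add, h5, hdd]
        · rw [h5, smul_add, h6, h1', ← add_assoc]
          intro h7
          exact hs.c_ne (add_eq_left.mp h7)
      · exact ⟨w, e, he, h4, h5, h6⟩
    have a3' := (hs.or e1).resolve_left a3
    -- `w1 ~ s`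
    have b1 : Nb M s w1 := (nb_iff hM hs hw1).mpr ⟨a3, a1⟩
    by_cases h7 : w1 • d = d
    · -- `w2 = s w1 s`, centre `e1 + c`, `w2 d = s w1 (d + c) = ...`
      have hw2 := hw1.conj s
      have b2 : Nb M s (s * w1 * s⁻¹) := by
        have := b1.conj s
        rwa [mul_assoc s s s⁻¹, mul_inv_cancel, mul_one] at this
      have a1' := (hw1.or c).resolve_left a1
      have b3 : Nb M t (s * w1 * s⁻¹) := by
        refine (nb_iff hM ht hw2).mpr ⟨?_, ?_⟩
        · rw [a3', smul_add, a2, h2]
          intro h8
          have : e1 + d + c = e1 + c + d := by abel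
          rw [this] at h8
          exact ht.c_ne (add_eq_left.mp h8)
        · rw [mul_smul, mul_smul, hs.inv_eq hM, h1', smul_add, h7, a1', smul_add, h1', smul_add, hcc, a3']
          intro h8
          have f1 : d + c + (c + (e1 + c)) = d + (e1 + c) + (c + c) := by abel
          rw [f1, hM, add_zero] at h8
          have h9 := add_eq_left.mp h8
          have f2 : e1 = c := by
            have := congrArg (· + c) h9
            simp only [zero_add] at this
            rwa [add_cancel2 hM] at this
          rw [f2] at a3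
          exact a3 hcc
      exact hn (b2.cmp.trans b3.symm.cmp)
    · have b3 : Nb M t w1 := by
        refine (nb_iff hM ht hw1).mpr ⟨?_, h7⟩
        rw [a2]
        intro h8
        exact ht.c_ne (add_eq_left.mp h8)
      exact hn (b1.cmp.trans b3.symm.cmp)
  rw [hs.comm_iff ht]
  constructor
  · by_contra h1
    exact key hs ht hn h1
  · by_contra h1
    exact key ht hs (fun h => hn h.symm) h1

end Cfsg.Agent.Omega.NO3S.TwoMid.TwoBlk
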