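import Cfsg.Agent.Omega.NO3S.TwoMid.TwoBlk.Comp

/-!
# The centres `{c, d}` are determined by the line vector `lam` (abstract form of helper144 #18799 (7), (8))

`H` acts faithfully on the elementary abelian `2`-group `M`, `O₂(H) = 1`.

* `Fl lam U A J` : an (abstract) inner pair over the line vector `lam`; `A` = image of `W_a W_ar`, `J` = image of
  `K_r ∩ C(V_br)`, `U = U_lam`;
* `Fl.moves` : a neighbour of a transvection `t ∈ A` moves `lam`;
* `Fl.pair` : `t = (c, ·) ∈ A`: `t₂ = (lam + c, ·) ∈ A`; the component of `t` centralises `t₂` and `lam + c`, the component of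
  `t₂` centralises `t` and `c`;
* `Fl.det` : the pair `{c, lam + c}` does not depend on `A`;
* `Fl.both` : `A₀ ≤ A` generated by transvections, `lam ∈ [M, A₀]`: `A₀` contains transvections with centres `c` and `lam + c`;
* `Fl.fin` : the element `h = s₁ s₂` of (8).
-/

set_option autoImplicit false

namespace Cfsg.Agent.Omega.NO3S.TwoMid.TwoBlk

universe u v

variable {H : Type u} [Group H] {M : Type v} [AddCommGroup M] [DistribMulAction H M]

/-- an inner pair over `lam`, abstractly -/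
structure Fl (lam : M) (U : AddSubgroup M) (A J : Subgroup H) : Prop where
  two : ∀ m : M, m + m = 0
  lam_mem : lam ∈ U
  fix : ∀ a ∈ A, ∀ u ∈ U, a • u = u
  cen : ∀ a ∈ A, ∀ c : M, Tv a c → c ∈ U
  noL : ∀ a ∈ A, ∀ c : M, Tv a c → c ≠ lam
  comm : ∀ a ∈ A, ∀ b ∈ A, a * b = b * a
  nrm : ∀ a ∈ A, ∀ h : H, h • lam = lam → a * (h * a * h⁻¹) = h * a * h⁻¹ * a
  jn : ∀ k ∈ J, ∀ a ∈ A, k * a * k⁻¹ ∈ A
  jl : ∀ k ∈ J, k • lam = lam
  jex : ∀ u ∈ U, u ≠ 0 → u ≠ lam → ∃ k ∈ J, k • u = lam + u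
  ss : ∀ h : H, ∀ a ∈ A, (∃ u ∈ U, a • (h • lam) = h • lam + h • u) → a • (h • lam) = h • lam

variable {lam : M} {U : AddSubgroup M} {A A' J : Subgroup H} {s t x y : H} {c d e : M}

theorem Nb.conj_eq [FaithfulSMul H M] (hM : ∀ m : M, m + m = 0) (h : Nb M x y) : x * y * x * (x * y)⁻¹ = y := by
  obtain ⟨⟨c, hc⟩, ⟨d, hd⟩, -, h2⟩ := h
  have hx := hc.mul_self hM
  have hy := hd.mul_self hM
  rw [h2, mul_inv_rev, hc.inv_eq hM, hd.inv_eq hM]
  calc y * x * y * (y * x) = y * x * (y * y) * x := by group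
    _ = y * (x * x) := by rw [hy]; group
    _ = y := by rw [hx, mul_one]

namespace Fl

/-- a neighbour of a transvection `t ∈ A` moves `lam` -/
theorem moves [FaithfulSMul H M] (F : Fl lam U A J) (ht : t ∈ A) (hn : Nb M t s) : s • lam ≠ lam := by
  intro h
  have h1 := F.nrm t ht s h
  obtain ⟨⟨c, hc⟩, ⟨d, hd⟩, -, h2⟩ := id hn
  have hx := hc.mul_self F.two
  rw [hd.inv_eq F.two, ← h2] at h1
  refine not_comm_of_nb hn ?_
  have e1 : t * (t * s * t) = s * t := by
    calc t * (t * s * t) = t * t * (s * t) := by group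
      _ = s * t := by rw [hx, one_mul]
  have e2 : t * s * t * t = t * s := by rw [mul_assoc (t * s), hx, mul_one]
  rw [e1, e2] at h1
  exact h1.symm

theorem smul_partner [FaithfulSMul H M] (F : Fl lam U A J) (ht : t ∈ A) (hc : Tv t c) (hn : Nb M t s) :
    s • (lam + c) = lam + c := by
  have h1 := F.moves ht hn
  obtain ⟨e, he⟩ := hn.2.1
  have h2 := ((nb_iff F.two hc he).mp hn).2
  rw [smul_add, (he.or lam).resolve_left h1, (he.or c).resolve_left h2]
  have : lam + e + (c + e) = lam + c + (e + e) := by abel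
  rw [this, F.two, add_zero]

/-- `t₂ = k t k⁻¹` centralises the neighbours of `t` -/
theorem comm_partner [FaithfulSMul H M] (F : Fl lam U A J) (ht : t ∈ A) (hc : Tv t c) {k : H} (hk : k ∈ J)
    (hkc : k • c = lam + c) (hn : Nb M t s) : k * t * k⁻¹ * s = s * (k * t * k⁻¹) := by
  have h1 := F.moves ht hn
  have h0 := F.smul_partner ht hc hn
  obtain ⟨e, he⟩ := hn.2.1
  have h2 : Tv (k * t * k⁻¹) (lam + c) := by
    rw [← hkc]
    exact hc.conj k
  have h2A := F.jn k hk t ht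
  have h3 := (he.or lam).resolve_left h1
  rw [h2.comm_iff he]
  refine ⟨?_, h0⟩
  by_contra h4
  have h5 := (h2.or e).resolve_left h4
  have h6 : (k * t * k⁻¹) • (s • lam) = s • lam + (lam + c) := by
    rw [h3, smul_add, F.fix _ h2A _ F.lam_mem, h5, add_assoc]
  have h7 := F.ss s _ h2A ⟨lam + c, U.add_mem F.lam_mem (F.cen t ht c hc), by rw [h6, h0]⟩
  rw [h6] at h7
  exact h2.c_ne (add_eq_left.mp h7)

/-- the component of `t` centralises `t₂` and `lam + c` -/
theorem comp_partner [FaithfulSMul H M] (F : Fl lam U A J) (ht : t ∈ A) (hc : Tv t c) {k : H} (hk : k ∈ J)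
    (hkc : k • c = lam + c) (hx : Cmp M t x) :
    k * t * k⁻¹ * x = x * (k * t * k⁻¹) ∧ x • (lam + c) = lam + c := by
  set t2 := k * t * k⁻¹ with ht2
  set d := lam + c with hd
  have h2A : t2 ∈ A := F.jn k hk t ht
  suffices h : (t2 * x = x * t2 ∧ x • d = d) ∧ ∀ y, Nb M x y → t2 * y = y * t2 ∧ y • d = d from h.1
  induction hx with
  | refl =>
    refine ⟨⟨F.comm _ h2A _ ht, F.fix t ht _ (U.add_mem F.lam_mem (F.cen t ht c hc))⟩, fun y hy => ?_⟩
    exact ⟨F.comm_partner ht hc hk hkc hy, F.smul_partner ht hc hy⟩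
  | @tail x x' _ h ih =>
    refine ⟨ih.2 x' h, fun y hy => ?_⟩
    have hg : t2 * (x * x') = x * x' * t2 := by
      rw [← mul_assoc, ih.1.1, mul_assoc, (ih.2 x' h).1, mul_assoc]
    have hgd : (x * x') • d = d := by rw [mul_smul, (ih.2 x' h).2, ih.1.2]
    set g := x * x' with hgdef
    have hgx : g * x * g⁻¹ = x' := by rw [hgdef, h.conj_eq F.two]
    have hnb : Nb M x (g⁻¹ * y * g) := by
      have h1 := hy.conj g⁻¹
      rw [inv_inv] at h1
      have e1 : g⁻¹ * x' * g = x := by rw [← hgx]; group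
      rwa [e1] at h1
    obtain ⟨h3, h4⟩ := ih.2 _ hnb
    constructor
    · have e1 : g⁻¹ * t2 * g = t2 := by rw [mul_assoc, hg, inv_mul_cancel_left]
      have e2 : t2 = g * t2 * g⁻¹ := by rw [← hg, mul_inv_cancel_right]
      calc t2 * y = g * (t2 * (g⁻¹ * y * g)) * g⁻¹ := by
            have : t2 * (g⁻¹ * y * g) = g⁻¹ * t2 * g * (g⁻¹ * y * g) := by rw [e1]
            rw [this]
            group
        _ = g * ((g⁻¹ * y * g) * t2) * g⁻¹ := by rw [h3]
        _ = y * (g * t2 * g⁻¹) := by group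
        _ = y * t2 := by rw [← e2]
    · rw [mul_smul, mul_smul, hgd] at h4
      have := congrArg (g • ·) h4
      simp only [smul_inv_smul] at this
      rwa [hgd] at this

/-- #18799 (7): the partner of a transvection `t ∈ A` -/
theorem pair [FaithfulSMul H M] (F : Fl lam U A J) (ht : t ∈ A) (hc : Tv t c) :
    ∃ t2 ∈ A, Tv t2 (lam + c) ∧ (∀ x, Cmp M t x → t2 * x = x * t2 ∧ x • (lam + c) = lam + c) ∧
      ∀ x, Cmp M t2 x → t * x = x * t ∧ x • c = c := by
  obtain ⟨k, hk, hkc⟩ := F.jex c (F.cen t ht c hc) hc.c_ne (F.noL t ht c hc)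
  have h2 : Tv (k * t * k⁻¹) (lam + c) := by
    rw [← hkc]
    exact hc.conj k
  have h2A := F.jn k hk t ht
  have e0 : lam + (lam + c) = c := by rw [← add_assoc, F.two, zero_add]
  have hk' : k⁻¹ • (lam + c) = lam + (lam + c) := by rw [← hkc, inv_smul_smul, hkc, e0]
  refine ⟨_, h2A, h2, fun x hx => F.comp_partner ht hc hk hkc hx, fun x hx => ?_⟩
  have h3 := F.comp_partner h2A h2 (J.inv_mem hk) hk' hx
  rw [e0] at h3
  have e1 : k⁻¹ * (k * t * k⁻¹) * k⁻¹⁻¹ = t := by group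
  rwa [e1] at h3

/-- #18799 (7): the pair `{c, lam + c}` does not depend on the inner pair over `lam` -/
theorem det [Finite H] [FaithfulSMul H M] (hO : pCore 2 H = ⊥) (F : Fl lam U A J) (F' : Fl lam U A' J) (ht : t ∈ A)
    (hc : Tv t c) {t' : H} {c' : M} (ht' : t' ∈ A') (hc' : Tv t' c') : c' = c ∨ c' = lam + c := by
  obtain ⟨s, hs⟩ := exists_nb F.two hO hc
  have hsl := F.moves ht hs
  obtain ⟨t2, ht2, hd, hp, -⟩ := F.pair ht hc
  -- the claim for a `t'` whose centre is moved by `s`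
  have key : ∀ {t' : H} {c' : M}, t' ∈ A' → Tv t' c' → s • c' ≠ c' → c' = c := by
    intro t' c' ht' hc' hm
    obtain ⟨e, he⟩ := hs.2.1
    have h1 : Cmp M t t' := by
      refine hs.cmp.trans ?_
      by_contra hn
      exact hm ((he.comm_iff hc').mp (comm_of_not_cmp F.two hO he hc' hn)).1
    obtain ⟨t2', ht2', hd', hp', -⟩ := F'.pair ht' hc'
    -- `delta = c + c'` is fixed by all transvections
    have hfix : ∀ (x : H) (g : M), Tv x g → x • (c + c') = c + c' := by
      intro x g hx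
      by_cases h2 : Cmp M t x
      · have h3 := (hp x h2).2
        have h4 := (hp' x (h1.symm.trans h2)).2
        have e1 : c + c' = lam + c + (lam + c') := by
          have : lam + c + (lam + c') = c + c' + (lam + lam) := by abel
          rw [this, F.two, add_zero]
        rw [e1, smul_add, h3, h4]
      · have h3 := ((hx.comm_iff hc).mp (comm_of_not_cmp F.two hO hx hc fun h => h2 h.symm)).1
        have h4 := ((hx.comm_iff hc').mp (comm_of_not_cmp F.two hO hx hc' fun h => h2 (h1.trans h.symm))).1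
        rw [smul_add, h3, h4]
    have hU : c + c' ∈ U := U.add_mem (F.cen t ht c hc) (F'.cen t' ht' c' hc')
    have h0 : c + c' = 0 := by
      by_contra h0
      by_cases h2 : c + c' = lam
      · exact hsl (by rw [← h2]; exact hfix s e he)
      · obtain ⟨k, hk, hkc⟩ := F.jex _ hU h0 h2
        have h3 := hfix s e he
        have h4 := hfix (k⁻¹ * s * k⁻¹⁻¹) _ (he.conj k⁻¹)
        rw [inv_inv, mul_smul, mul_smul, hkc] at h4
        have h5 := congrArg (k • ·) h4
        simp only [smul_inv_smul] at h5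
        rw [smul_add, h3, hkc] at h5
        exact hsl (add_right_cancel h5)
    have := congrArg (· + c') h0
    simp only [zero_add] at this
    rw [add_cancel2 F.two] at this
    exact this.symm
  by_cases hm : s • c' = c'
  · obtain ⟨t2', ht2', hd', -, -⟩ := F'.pair ht' hc'
    have hm' : s • (lam + c') ≠ lam + c' := by
      rw [smul_add, hm]
      exact fun h => hsl (add_right_cancel h)
    have := key ht2' hd' hm'
    right
    rw [← this, ← add_assoc, F.two, zero_add]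
  · exact .inl (key ht' hc' hm)

/-- `A₀ ≤ A` is generated by transvections and `lam ∈ [M, A₀]`: both centres occur, `[M, A₀] = {0, c, lam + c, lam}` -/
theorem both [Finite H] [FaithfulSMul H M] (hO : pCore 2 H = ⊥) (F : Fl lam U A J) {A₀ : Subgroup H} (hA : A₀ ≤ A)
    (hgen : A₀ ≤ Subgroup.closure {t | t ∈ A₀ ∧ IsTv M t})
    (hlam : lam ∈ AddSubgroup.closure {m : M | ∃ a ∈ A₀, ∃ n : M, m = a • n + n}) (hl0 : lam ≠ 0) :
    ∃ c : M, (∃ t ∈ A₀, Tv t c) ∧ ∃ t ∈ A₀, Tv t (lam + c) := by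
  have hM := F.two
  have hex : ∃ t ∈ A₀, ∃ c : M, Tv t c := by
    by_contra hn
    push Not at hn
    have h1 : Subgroup.closure {t | t ∈ A₀ ∧ IsTv M t} = ⊥ := by
      rw [Subgroup.closure_eq_bot_iff]
      rintro t ⟨h2, c, h3⟩
      exact absurd h3 (hn t h2 c)
    rw [h1, le_bot_iff] at hgen
    have h2 : {m : M | ∃ a ∈ A₀, ∃ n : M, m = a • n + n} ⊆ {0} := by
      rintro m ⟨a, ha, n, rfl⟩
      rw [hgen, Subgroup.mem_bot] at ha
      rw [ha, one_smul, hM]
      rfl
    have h3 := AddSubgroup.closure_mono h2 hlam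
    rw [AddSubgroup.closure_singleton_zero, AddSubgroup.mem_bot] at h3
    exact hl0 h3
  obtain ⟨t, ht, c, hc⟩ := hex
  by_contra hn
  push Not at hn
  -- all centres are `c`
  have h1 : ∀ t' ∈ A₀, ∀ c' : M, Tv t' c' → c' = c := by
    intro t' ht' c' hc'
    rcases F.det hO F (hA ht) hc (hA ht') hc' with h | h
    · exact h
    · rw [h] at hc'
      exact absurd hc' (hn c ⟨t, ht, hc⟩ t' ht')
  have h2 : ∀ a ∈ A₀, ∀ m : M, a • m = m ∨ a • m = m + c := by
    have hcc : ∀ t' ∈ A₀, ∀ c' : M, Tv t' c' → t' • c = c := by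
      intro t' ht' c' hc'
      have := h1 t' ht' c' hc'
      subst this
      exact hc'.smul_c hM
    let D : Subgroup H :=
      { carrier := {a | a • c = c ∧ ∀ m : M, a • m = m ∨ a • m = m + c}
        one_mem' := ⟨one_smul _ _, fun m => .inl (one_smul _ _)⟩
        mul_mem' := by
          rintro a b ⟨ha1, ha⟩ ⟨hb1, hb⟩
          refine ⟨by rw [mul_smul, hb1, ha1], fun m => ?_⟩
          rw [mul_smul]
          rcases hb m with e | e
          · rw [e]
            exact ha m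
          · rw [e, smul_add, ha1]
            rcases ha m with e' | e'
            · rw [e']
              exact .inr rfl
            · rw [e', add_cancel2 hM]
              exact .inl rfl
        inv_mem' := by
          rintro a ⟨ha1, ha⟩
          have e1 : a⁻¹ • c = c := smul_inv_eq ha1
          refine ⟨e1, fun m => ?_⟩
          rcases ha (a⁻¹ • m) with e | e
          · rw [smul_inv_smul] at e
            exact .inl e.symm
          · rw [smul_inv_smul] at e
            right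
            conv_rhs => rw [e]
            rw [add_cancel2 hM] }
    have h3 : Subgroup.closure {t | t ∈ A₀ ∧ IsTv M t} ≤ D := by
      rw [Subgroup.closure_le]
      rintro t' ⟨ht', c', hc'⟩
      have := h1 t' ht' c' hc'
      subst this
      exact ⟨hc'.smul_c hM, hc'.or⟩
    exact fun a ha => (h3 (hgen ha)).2
  have h3 : lam ∈ AddSubgroup.zmultiples c := by
    have h4 : AddSubgroup.closure {m : M | ∃ a ∈ A₀, ∃ n : M, m = a • n + n} ≤ AddSubgroup.zmultiples c := by
      rw [AddSubgroup.closure_le]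
      rintro m ⟨a, ha, n, rfl⟩
      rcases h2 a ha n with e | e
      · rw [e, hM]
        exact zero_mem _
      · rw [e, add_right_comm, hM, zero_add]
        exact AddSubgroup.mem_zmultiples c
    exact h4 hlam
  obtain ⟨n, hn'⟩ := AddSubgroup.mem_zmultiples_iff.mp h3
  rcases Int.even_or_odd n with ⟨k, hk⟩ | ⟨k, hk⟩
  · rw [hk, add_zsmul, hM] at hn'
    exact hl0 hn'.symm
  · rw [hk, add_zsmul, one_zsmul, two_mul, add_zsmul, hM, zero_add] at hn'
    exact F.noL t (hA ht) c hc hn'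

/-- **#18799 (8), abstract part**: `t₁ = (c, ·)`, `t₂ = (lam + c, ·)` in `A₀ ≤ A`, `f = t₁ t₂`: some `h` with
`mu = h lam`, `f mu = mu + lam`, `h t₁ h⁻¹` maps `mu + lam` to `mu + lam + h c ∉ {0, mu, mu + lam, lam}`, and
`{0, c, lam + c, lam} ∩ {0, h c, h (lam + c), h lam} = 0`; `mu ∉ {0, lam}`. -/
theorem fin [Finite H] [FaithfulSMul H M] (hO : pCore 2 H = ⊥) (F : Fl lam U A J) {t₁ t₂ : H} (h1 : t₁ ∈ A)
    (hc : Tv t₁ c) (h2 : t₂ ∈ A) (hd : Tv t₂ (lam + c)) :
    ∃ h : H, (t₁ * t₂) • (h • lam) = h • lam + lam ∧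
      (h * t₁ * h⁻¹) • (h • lam + lam) = h • lam + lam + h • c ∧
      (h • lam + lam + h • c ≠ 0 ∧ h • lam + lam + h • c ≠ h • lam ∧ h • lam + lam + h • c ≠ h • lam + lam ∧
        h • lam + lam + h • c ≠ lam) ∧
      (∀ m : M, (m = 0 ∨ m = c ∨ m = lam + c ∨ m = lam) →
        (m = 0 ∨ m = h • c ∨ m = h • (lam + c) ∨ m = h • lam) → m = 0) ∧
      (h • lam ≠ lam) ∧
      -- `[U_mu, f]` contains `c` and `lam + c`
      ((t₁ * t₂) • (h • c) = h • c + c ∧ (t₁ * t₂) • (h • (lam + c)) = h • (lam + c) + (lam + c)) := by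
  have hM := F.two
  obtain ⟨_, _, _, hp1, _⟩ := F.pair h1 hc
  obtain ⟨_, _, _, hp2, _⟩ := F.pair h2 hd
  obtain ⟨d, hdd⟩ : ∃ d, d = lam + c := ⟨_, rfl⟩
  rw [← hdd] at hp1 hd hp2 ⊢
  have e0 : lam + d = c := by rw [hdd, ← add_assoc, hM, zero_add]
  rw [e0] at hp2
  obtain rfl : lam = c + d := by
    rw [hdd, add_comm lam c, ← add_assoc, hM, zero_add]
  clear e0 hdd
  have hcU := F.cen _ h1 c hc
  have hdU := F.cen _ h2 d hd
  obtain ⟨s₁, hs1⟩ := exists_nb hM hO hc
  obtain ⟨s₂, hs2⟩ := exists_nb hM hO hd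
  obtain ⟨e₁, he1⟩ := hs1.2.1
  obtain ⟨e₂, he2⟩ := hs2.2.1
  obtain ⟨a1, a2⟩ := (nb_iff hM hc he1).mp hs1
  obtain ⟨b1, b2⟩ := (nb_iff hM hd he2).mp hs2
  have t1e1 := (hc.or e₁).resolve_left a1
  have s1c := (he1.or c).resolve_left a2
  have t2e2 := (hd.or e₂).resolve_left b1
  have s2d := (he2.or d).resolve_left b2
  have s1d : s₁ • d = d := (hp1 s₁ hs1.cmp).2
  have s2c : s₂ • c = c := (hp2 s₂ hs2.cmp).2
  -- different components
  have n12 : ¬ Cmp M s₁ s₂ := fun h => b2 (hp1 s₂ (hs1.cmp.trans h)).2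
  have n1 : ¬ Cmp M t₁ s₂ := fun h => b2 (hp1 s₂ h).2
  have n2 : ¬ Cmp M t₂ s₁ := fun h => a2 (hp2 s₁ h).2
  obtain ⟨s1e2, s2e1⟩ := (he1.comm_iff he2).mp (comm_of_not_cmp hM hO he1 he2 n12)
  have t1e2 : t₁ • e₂ = e₂ := ((hc.comm_iff he2).mp (comm_of_not_cmp hM hO hc he2 n1)).1
  have t2e1 : t₂ • e₁ = e₁ := ((hd.comm_iff he1).mp (comm_of_not_cmp hM hO hd he1 n2)).1
  have s1e1 := he1.smul_c hM
  have s2e2 := he2.smul_c hM
  have t1c := F.fix _ h1 _ hcU
  have t1d := F.fix _ h1 _ hdU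
  have t2c := F.fix _ h2 _ hcU
  have t2d := F.fix _ h2 _ hdU
  have hhc : (s₁ * s₂) • c = c + e₁ := by rw [mul_smul, s2c, s1c]
  have hhd : (s₁ * s₂) • d = d + e₂ := by rw [mul_smul, s2d, smul_add, s1d, s1e2]
  have hhl : (s₁ * s₂) • (c + d) = c + d + e₁ + e₂ := by
    rw [smul_add, hhc, hhd]
    abel
  -- `t₁` moves `m`, fixes `n`
  have nf1 : ∀ m n : M, t₁ • m = m + c → t₁ • n = n → m ≠ n := by
    rintro m n hm hn rfl
    rw [hn] at hm
    exact hc.c_ne (left_eq_add.mp hm)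
  have nf2 : ∀ m n : M, t₂ • m = m + d → t₂ • n = n → m ≠ n := by
    rintro m n hm hn rfl
    rw [hn] at hm
    exact hd.c_ne (left_eq_add.mp hm)
  have hll : c + d + e₁ + e₂ + (c + d) = e₁ + e₂ := by
    have : c + d + e₁ + e₂ + (c + d) = e₁ + e₂ + (c + c) + (d + d) := by abel
    rw [this, hM, hM, add_zero, add_zero]
  have hX : e₁ + e₂ + (c + e₁) = c + e₂ := by
    have : e₁ + e₂ + (c + e₁) = c + e₂ + (e₁ + e₁) := by abel
    rw [this, hM, add_zero]
  have t1l : t₁ • (c + d) = c + d := by rw [smul_add, t1c, t1d]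
  have t2l : t₂ • (c + d) = c + d := by rw [smul_add, t2c, t2d]
  have m1 : t₁ • (c + e₁) = c + e₁ + c := by rw [smul_add, t1c, t1e1, add_assoc]
  have m2 : t₂ • (d + e₂) = d + e₂ + d := by rw [smul_add, t2d, t2e2, add_assoc]
  have m3 : t₁ • (c + d + e₁ + e₂) = c + d + e₁ + e₂ + c := by
    simp only [smul_add, t1c, t1d, t1e1, t1e2]
    abel
  have m4 : t₂ • (c + e₂) = c + e₂ + d := by rw [smul_add, t2c, t2e2, add_assoc]
  have m5 : t₁ • (e₁ + e₂) = e₁ + e₂ + c := by
    simp only [smul_add, t1e1, t1e2]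
    abel
  have m6 : t₁ • (c + e₂) = c + e₂ := by rw [smul_add, t1c, t1e2]
  refine ⟨s₁ * s₂, ?_, ?_, ?_, ?_, ?_, ?_⟩
  · rw [hhl, mul_smul]
    simp only [smul_add, t1c, t1d, t1e1, t1e2, t2c, t2d, t2e1, t2e2]
    abel
  · rw [hhl, hll, hhc, hX]
    have i1 : (s₁ * s₂)⁻¹ • (e₁ + e₂) = e₁ + e₂ := by
      rw [mul_inv_rev, mul_smul, he1.inv_eq hM, he2.inv_eq hM, smul_add, s1e1, s1e2, smul_add, s2e1, s2e2]
    rw [mul_smul, mul_smul, i1, m5, mul_smul]
    simp only [smul_add, s2e1, s2c, s2e2, s1e1, s1c, s1e2]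
    have : e₁ + e₂ + (c + e₁) = c + e₂ + (e₁ + e₁) := by abel
    rw [this, hM, add_zero]
  · rw [hhl, hll, hhc, hX]
    refine ⟨?_, ?_, ?_, ?_⟩
    · exact nf2 _ _ m4 (smul_zero _)
    · exact (nf1 _ _ m3 m6).symm
    · exact (nf1 _ _ m5 m6).symm
    · exact nf2 _ _ m4 t2l
  · rw [hhc, hhd, hhl]
    intro m hm hm'
    have hU : t₁ • m = m ∧ t₂ • m = m := by
      rcases hm with rfl | rfl | rfl | rfl
      · exact ⟨smul_zero _, smul_zero _⟩
      · exact ⟨t1c, t2c⟩
      · exact ⟨t1d, t2d⟩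
      · exact ⟨t1l, t2l⟩
    rcases hm' with h | h | h | h
    · exact h
    · exact absurd h.symm (nf1 _ _ m1 hU.1)
    · exact absurd h.symm (nf2 _ _ m2 hU.2)
    · exact absurd h.symm (nf1 _ _ m3 hU.1)
  · rw [hhl]
    exact nf1 _ _ m3 t1l
  · rw [hhc, hhd]
    constructor
    · rw [mul_smul]
      simp only [smul_add, t2c, t2e1, t1c, t1e1]
      abel
    · rw [mul_smul]
      simp only [smul_add, t2d, t2e2, t1d, t1e2]
      abel

end Fl

end Cfsg.Agent.Omega.NO3S.TwoMid.TwoBlk
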